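import Mathlib

/-!
Quadratic maps built from inversion in finite fields of characteristic two, and recognition of
subfields by multiplicative translations.
-/

set_option autoImplicit false

namespace H21.Shult.QuadInverse

variable {F : Type*} [Field F]

/-- The polar form of inversion (with `0⁻¹ = 0`). -/
def Bf (a b : F) : F := (a + b)⁻¹ + a⁻¹ + b⁻¹

theorem bf_zero [CharP F 2] (c : F) : Bf (0 : F) c = 0 := by
  simp only [Bf, zero_add, inv_zero, add_zero, CharTwo.add_self_eq_zero]

theorem bf_one_one [CharP F 2] : Bf (1 : F) 1 = 0 := by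
  simp only [Bf, CharTwo.add_self_eq_zero, inv_zero, zero_add, inv_one]

/-- The value of `Bf x 1` away from the prime field. -/
theorem bf_one [CharP F 2] {x : F} (h0 : x ≠ 0) (h1 : x ≠ 1) :
    Bf x 1 = (x ^ 2 + x)⁻¹ + 1 := by
  have hx1 : x + 1 ≠ 0 := fun h => h1 (CharTwo.add_eq_zero.1 h)
  have h : x ^ 2 + x = x * (x + 1) := by ring
  rw [Bf, inv_one, h, mul_inv]
  have e : (x + 1)⁻¹ + x⁻¹ = x⁻¹ * (x + 1)⁻¹ := by
    field_simp
    linear_combination (x * (1 : F)) * (CharTwo.two_eq_zero (R := F))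
  rw [e]

/-- A non-zero additive functional separates points after multiplication. -/
theorem eq_zero_of_forall (g : F →+ ZMod 2) (hg : g ≠ 0) {y : F} (h : ∀ x, g (x * y) = 0) : y = 0 := by
  by_contra hy
  refine hg (AddMonoidHom.ext fun z => ?_)
  have := h (z * y⁻¹)
  rwa [inv_mul_cancel_right₀ hy] at this

/-- Only the field of eight elements carries such a functional. -/
theorem card_eq_eight [Finite F] [CharP F 2] (g : F →+ ZMod 2) (hg : g ≠ 0) (hg1 : g 1 = 0)
    (hadd : ∀ x a b c : F, g (x * Bf (a + b) c) = g (x * Bf a c) + g (x * Bf b c))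
    (hfix : ∀ x : F, g x = g (Bf x 1)) (h4 : 4 ≤ Nat.card F) : Nat.card F = 8 := by
  classical
  haveI := Fintype.ofFinite F
  haveI : Fact (Nat.Prime 2) := ⟨Nat.prime_two⟩
  have hbi : ∀ a b c : F, Bf (a + b) c = Bf a c + Bf b c := fun a b c =>
    sub_eq_zero.1 (eq_zero_of_forall g hg fun x => by
      rw [mul_sub, map_sub, mul_add, map_add, hadd, sub_self])
  obtain ⟨⟨n, hn0⟩, -, hn⟩ := FiniteField.card F 2
  rw [Nat.card_eq_fintype_card] at h4 ⊢
  rw [PNat.mk_coe] at hn
  rw [hn] at h4 ⊢
  obtain rfl | rfl | rfl | hn4 : n = 1 ∨ n = 2 ∨ n = 3 ∨ 4 ≤ n := by omega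
  · norm_num at h4
  · -- four elements: the polar vanishes
    exfalso
    refine hg (AddMonoidHom.ext fun x => ?_)
    rw [AddMonoidHom.zero_apply]
    by_cases h0 : x = 0
    · rw [h0, map_zero]
    by_cases h1 : x = 1
    · rw [h1, hg1]
    have h3 : x ^ 3 = 1 := by
      have h := FiniteField.pow_card_sub_one_eq_one x h0
      rwa [hn] at h
    have hquad : x ^ 2 + x + 1 = 0 := by
      have : (x - 1) * (x ^ 2 + x + 1) = 0 := by linear_combination h3
      exact (mul_eq_zero.1 this).resolve_left (sub_ne_zero.2 h1)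
    rw [hfix, bf_one h0 h1, show x ^ 2 + x = 1 from (CharTwo.add_eq_zero.1 hquad), inv_one,
      CharTwo.add_self_eq_zero, map_zero]
  · norm_num
  · exfalso
    have h16 : 16 ≤ Fintype.card F := by
      rw [hn]; exact le_trans (by norm_num : 16 ≤ 2 ^ 4) (Nat.pow_le_pow_right two_pos hn4)
    obtain ⟨y, -, hy⟩ := Finset.exists_mem_notMem_of_card_lt_card
      (s := ({0, 1} : Finset F)) (t := Finset.univ)
      (lt_of_le_of_lt Finset.card_le_two (by rw [Finset.card_univ]; omega))
    simp only [Finset.mem_insert, Finset.mem_singleton, not_or] at hy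
    obtain ⟨hy0, hy1⟩ := hy
    set Y := y ^ 2 + y with hY
    have hY0 : Y ≠ 0 := by
      rw [hY, show y ^ 2 + y = y * (y + 1) by ring]
      exact mul_ne_zero hy0 fun h => hy1 (CharTwo.add_eq_zero.1 h)
    let A : Polynomial F := Polynomial.X ^ 2 + Polynomial.X
    let P : Polynomial F := Polynomial.C (1 + Y) * A ^ 2 + Polynomial.C (Y + Y ^ 2) * A + Polynomial.C (Y ^ 2)
    have hP0 : P ≠ 0 := fun h => by
      have := congrArg (Polynomial.eval 0) h
      simp [P, A] at this
      exact hY0 this
    have hdeg : P.natDegree ≤ 4 := by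
      simp only [P, A]; compute_degree
    have hroot : (Finset.univ \ ({0, 1, y, y + 1} : Finset F)) ⊆ P.roots.toFinset := by
      intro x hx
      simp only [Finset.mem_sdiff, Finset.mem_univ, true_and, Finset.mem_insert,
        Finset.mem_singleton, not_or] at hx
      obtain ⟨h0, h1, hxy, hxy1⟩ := hx
      rw [Multiset.mem_toFinset, Polynomial.mem_roots hP0]
      have hs0 : x + y ≠ 0 := fun h => hxy (CharTwo.add_eq_zero.1 h)
      have hs1 : x + y ≠ 1 := fun h => hxy1 (by
        rw [← h, add_left_comm, CharTwo.add_self_eq_zero, add_zero])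
      have h := hbi x y 1
      rw [bf_one h0 h1, bf_one hy0 hy1, bf_one hs0 hs1] at h
      have hsq : (x + y) ^ 2 + (x + y) = (x ^ 2 + x) + Y := by
        rw [hY]; linear_combination (x * y) * (CharTwo.two_eq_zero (R := F))
      rw [hsq, ← hY] at h
      have hA : x ^ 2 + x ≠ 0 := by
        rw [show x ^ 2 + x = x * (x + 1) by ring]
        exact mul_ne_zero h0 fun h => h1 (CharTwo.add_eq_zero.1 h)
      have hAY : (x ^ 2 + x) + Y ≠ 0 := by
        rw [← hsq, show (x + y) ^ 2 + (x + y) = (x + y) * ((x + y) + 1) by ring]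
        exact mul_ne_zero hs0 fun h => hs1 (CharTwo.add_eq_zero.1 h)
      show P.eval x = 0
      simp only [P, A, Polynomial.eval_add, Polynomial.eval_mul, Polynomial.eval_C,
        Polynomial.eval_pow, Polynomial.eval_X]
      generalize hAdef : x ^ 2 + x = a at h hA hAY
      field_simp at h
      linear_combination h + ((a ^ 2 + a * Y + Y ^ 2) + (a ^ 2 * Y + a * Y ^ 2)) * (CharTwo.two_eq_zero (R := F))
    have h1 := (Finset.card_le_card hroot).trans
      ((Multiset.toFinset_card_le _).trans ((Polynomial.card_roots' P).trans hdeg))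
    rw [Finset.card_sdiff_of_subset (Finset.subset_univ _), Finset.card_univ] at h1
    have h2 : ({0, 1, y, y + 1} : Finset F).card ≤ 4 := Finset.card_le_four
    omega

/-- An additive subgroup through `1` on which its own elements act by multiplication is a subfield. -/
theorem exists_subfield {L : Type*} [Field L] [Finite L] (S : AddSubgroup L) (h1 : (1 : L) ∈ S)
    (h : ∀ a ∈ S, a ≠ 0 → ∃ μ : L, (∀ s ∈ S, μ * s ∈ S) ∧ μ * 1 = a) :
    ∃ K : Subfield L, (K : Set L) = (S : Set L) := by
  have hmul : ∀ a b : L, a ∈ S → b ∈ S → a * b ∈ S := fun a b ha hb => by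
    by_cases h0 : a = 0
    · rw [h0, zero_mul]; exact S.zero_mem
    obtain ⟨μ, hμ, hμa⟩ := h a ha h0
    rw [mul_one] at hμa
    exact hμa ▸ hμ b hb
  refine ⟨{ carrier := S, one_mem' := h1, mul_mem' := fun ha hb => hmul _ _ ha hb,
            zero_mem' := S.zero_mem, add_mem' := fun ha hb => S.add_mem ha hb,
            neg_mem' := fun ha => S.neg_mem ha, inv_mem' := fun a ha => ?_ }, rfl⟩
  haveI := Fintype.ofFinite L
  by_cases h0 : a = 0
  · rw [h0, inv_zero]; exact S.zero_mem
  have hpow : ∀ i : ℕ, a ^ i ∈ S := fun i => by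
    induction i with
    | zero => rwa [pow_zero]
    | succ i ih => rw [pow_succ]; exact hmul _ _ ih ha
  have hinv : a⁻¹ = a ^ (Fintype.card L - 2) := by
    refine inv_eq_of_mul_eq_one_right ?_
    rw [← pow_succ', show Fintype.card L - 2 + 1 = Fintype.card L - 1 by
      have := Fintype.one_lt_card (α := L); omega]
    exact FiniteField.pow_card_sub_one_eq_one a h0
  rw [hinv]
  exact hpow _

/-- The field of order `2 ^ (2 * 2 ^ k)` has no subfield of order eight. -/
theorem card_subfield_ne_eight {L : Type*} [Field L] [Finite L] {k : ℕ}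
    (hL : Nat.card L = 2 ^ (2 * 2 ^ k)) (K : Subfield L) : Nat.card K ≠ 8 := by
  intro h8
  have h := Module.natCard_eq_pow_finrank (K := K) (V := L)
  rw [hL, h8, show (8 : ℕ) = 2 ^ 3 by norm_num, ← pow_mul] at h
  have h3 : (3 : ℕ) ∣ 2 * 2 ^ k := ⟨_, Nat.pow_right_injective le_rfl h⟩
  rw [← pow_succ'] at h3
  have := (Nat.prime_dvd_prime_iff_eq Nat.prime_three Nat.prime_two).1
    (Nat.prime_three.dvd_of_dvd_pow h3)
  omega

end H21.Shult.QuadInverse
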