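import Cfsg.Agent.H41.Shult.Forms

/-!
Gauss sums for a form of index `2 ^ (4 m)`: the number of elements with square in a given subgroup
of `Z`, and the bound on subgroups all whose squares lie there.
-/

set_option autoImplicit false
set_option linter.all false

open Subgroup

namespace H21.Shult.TwoGauss

open H41.Shult H41.Shult.FormData

theorem card_dual_sq {A : Type*} [CommGroup A] [Finite A] (h : ∀ a : A, a * a = 1) :
    Nat.card (A →* ℤˣ) = Nat.card A ∧ ∀ a : A, a ≠ 1 → ∃ ψ : A →* ℤˣ, ψ a ≠ 1 := by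
  have hexp : Monoid.exponent A ∣ 2 := Monoid.exponent_dvd_of_forall_pow_eq_one fun a => by
    rw [pow_two]; exact h a
  haveI : HasEnoughRootsOfUnity ℤ 2 :=
    ⟨⟨-1, by
      rw [IsPrimitiveRoot.iff_def]
      refine ⟨by norm_num, fun l hl => ?_⟩
      rcases Nat.even_or_odd l with he | ho
      · exact even_iff_two_dvd.mp he
      · rw [ho.neg_one_pow] at hl; omega⟩, inferInstance⟩
  haveI : HasEnoughRootsOfUnity ℤ (Monoid.exponent A) := HasEnoughRootsOfUnity.of_dvd ℤ hexp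
  exact ⟨CommGroup.card_monoidHom_of_hasEnoughRootsOfUnity A ℤ,
    fun a ha => CommGroup.exists_apply_ne_one_of_hasEnoughRootsOfUnity A ℤ ha⟩

variable {U : Type*} [Group U] [Finite U] {Z : Subgroup U} {σ : MulAut U} {r m : ℕ}
  (D : FormData Z σ r m)
include D

theorem card_univ_eq (hidx : Z.index = 2 ^ (4 * m)) :
    Nat.card U = 2 ^ (4 * m) * Nat.card Z := by
  rw [← Z.card_mul_index, hidx, mul_comm]

/-- The Gauss sum is positive. -/
theorem gauss_pos [Fintype U] {η : Z →* ℤˣ} (hrad : D.rad η = Z) (hidx : Z.index = 2 ^ (4 * m)) :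
    ∑ u : U, ((η (D.sv u) : ℤˣ) : ℤ) = (2 : ℤ) ^ (2 * m) * (Nat.card Z : ℤ) := by
  classical
  set T := ∑ u : U, ((η (D.sv u) : ℤˣ) : ℤ) with hT
  have hTT : T * T = (Nat.card U : ℤ) * (Nat.card Z : ℤ) := by
    rw [hT, Finset.sum_mul]
    have e : ∀ u : U, ((η (D.sv u) : ℤˣ) : ℤ) * ∑ v : U, ((η (D.sv v) : ℤˣ) : ℤ) =
        ∑ a : U, ((η (D.sv a) : ℤˣ) : ℤ) * ((η (D.cm a u) : ℤˣ) : ℤ) := by
      intro u
      rw [Finset.mul_sum]
      refine ((Equiv.sum_comp (Equiv.mulLeft u) _).symm).trans (Finset.sum_congr rfl fun a _ => ?_)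
      rw [Equiv.coe_mulLeft, D.sv_mul, map_mul, map_mul, Units.val_mul, Units.val_mul]
      have : ((η (D.sv u) : ℤˣ) : ℤ) * ((η (D.sv u) : ℤˣ) : ℤ) = 1 := by
        rw [← Units.val_mul, Int.units_mul_self]; rfl
      linear_combination (((η (D.sv a) : ℤˣ) : ℤ) * ((η (D.cm a u) : ℤˣ) : ℤ)) * this
    rw [Finset.sum_congr rfl fun u _ => e u, Finset.sum_comm]
    simp_rw [← Finset.mul_sum, D.sum_sq hrad, mul_ite, mul_zero]
    rw [← Finset.sum_filter, Finset.sum_congr rfl (g := fun _ => (Nat.card U : ℤ))]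
    · rw [Finset.sum_const, nsmul_eq_mul, mul_comm]
      congr 2
      rw [Nat.card_eq_fintype_card, Fintype.card_subtype]
    · intro a ha
      rw [Finset.mem_filter] at ha
      rw [D.sv_of_mem ha.2, map_one, Units.val_one, one_mul]
  -- congruence modulo `r`
  have hmod : (T : ℤ) ≡ (Nat.card Z : ℤ) [ZMOD (r : ℤ)] := by
    set A := Finset.univ.filter (fun u : U => η (D.sv u) = 1) with hA
    have h1 : T = 2 * (A.card : ℤ) - (Nat.card U : ℤ) := by
      have e : ∀ u : U, ((η (D.sv u) : ℤˣ) : ℤ) = 2 * (if η (D.sv u) = 1 then (1 : ℤ) else 0) - 1 :=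
        fun u => by rcases Int.units_eq_one_or (η (D.sv u)) with h | h <;> simp [h]
      rw [hT, Finset.sum_congr rfl fun u _ => e u, Finset.sum_sub_distrib, ← Finset.mul_sum]
      simp [hA, Nat.card_eq_fintype_card]
    have h2 : ∀ B : Finset U, (∀ u, u ∈ B ↔ σ u ∈ B) → (∀ z ∈ Z, z ∈ B) →
        (B.card : ℤ) ≡ (Nat.card Z : ℤ) [ZMOD (r : ℤ)] := by
      intro B hB hZB
      haveI := Fact.mk D.hr
      have hp : IsPGroup r (zpowers σ) := IsPGroup.of_card (n := Nat.factorization (orderOf σ) r) (by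
        rw [Nat.card_zpowers]
        rcases D.hr.eq_one_or_self_of_dvd _ (orderOf_dvd_of_pow_eq_one D.hσ) with h | h <;> rw [h] <;>
          simp [D.hr.factorization_self])
      have hinv : ∀ (s : zpowers σ) (u : U), u ∈ B → (s : MulAut U) u ∈ B := by
        rintro ⟨s, hs⟩ u hu
        obtain ⟨i, -, rfl⟩ := (IsOfFinOrder.mem_zpowers_iff_mem_range_orderOf
          (isOfFinOrder_of_finite σ)).mp hs |> Finset.mem_image.mp
        induction i with
        | zero => simpa using hu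
        | succ i ih =>
          show (σ ^ (i + 1)) u ∈ B
          rw [pow_succ', MulAut.mul_apply]
          exact (hB _).mp (ih (pow_mem (mem_zpowers σ) i))
      letI act : MulAction (zpowers σ) B :=
        { smul := fun s u => ⟨(s : MulAut U) u, hinv s u u.2⟩
          one_smul := fun u => Subtype.ext rfl
          mul_smul := fun s t u => Subtype.ext rfl }
      have h := hp.card_modEq_card_fixedPoints B
      rw [Nat.card_eq_fintype_card, Fintype.card_coe] at h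
      have hfix : Nat.card (MulAction.fixedPoints (zpowers σ) B) = Nat.card Z := by
        refine Nat.card_congr
          { toFun := fun u => ⟨(u.1 : U), (D.fix _).mp
              (congrArg Subtype.val (u.2 ⟨σ, mem_zpowers σ⟩))⟩
            invFun := fun z => ⟨⟨z, hZB z z.2⟩, fun s => Subtype.ext ?_⟩
            left_inv := fun u => rfl
            right_inv := fun z => rfl }
        obtain ⟨s, i, rfl⟩ := s
        show (σ ^ i) (z : U) = z
        have hz : σ • (z : U) = (z : U) := (D.fix _).mpr z.2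
        exact MulAction.mem_stabilizer_iff.mp
          (zpow_mem (MulAction.mem_stabilizer_iff.mpr hz) i)
      rw [hfix] at h
      exact_mod_cast h
    have hAc := h2 A (fun u => by simp [hA, D.sv_sigma]) (fun z hz => by simp [hA, D.sv_of_mem hz])
    have hUc := h2 Finset.univ (fun u => by simp) (fun z _ => Finset.mem_univ _)
    rw [Finset.card_univ, ← Nat.card_eq_fintype_card] at hUc
    rw [h1]
    have := ((hAc.mul_left 2).sub hUc)
    rwa [show (2 : ℤ) * (Nat.card Z : ℤ) - (Nat.card Z : ℤ) = (Nat.card Z : ℤ) by ring] at this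
  have hsq : T * T = ((2 : ℤ) ^ (2 * m) * (Nat.card Z : ℤ)) * ((2 : ℤ) ^ (2 * m) * (Nat.card Z : ℤ)) := by
    rw [hTT, card_univ_eq D hidx]; push_cast
    rw [show 4 * m = 2 * m + 2 * m by ring, pow_add]; ring
  rcases mul_self_eq_mul_self_iff.mp hsq with h | h
  · exact h
  · exfalso
    rw [h] at hmod
    have h3 := Int.ModEq.dvd hmod
    have h4 : (r : ℤ) ∣ (r : ℤ) * (((2 : ℤ) ^ m - 1) * (Nat.card Z : ℤ)) := dvd_mul_right _ _
    have h5 := dvd_sub h3 h4
    have hrm : (r : ℤ) = 2 ^ m + 1 := by rw [D.hrm]; push_cast; rfl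
    rw [show (Nat.card Z : ℤ) - -(2 ^ (2 * m) * (Nat.card Z : ℤ)) -
        (r : ℤ) * (((2 : ℤ) ^ m - 1) * (Nat.card Z : ℤ)) = 2 * (Nat.card Z : ℤ) by
      rw [hrm, two_mul m, pow_add]; ring] at h5
    have hd' : r ∣ 2 * Nat.card Z := by exact_mod_cast h5
    have hr2 : ¬ r ∣ 2 := fun h2 => by
      have := (Nat.prime_dvd_prime_iff_eq D.hr Nat.prime_two).mp h2
      have h5 := D.hrm
      have : 2 ≤ 2 ^ m := Nat.le_self_pow (by have := D.m_pos; omega) 2
      omega
    rcases D.hr.dvd_mul.mp hd' with h2 | h2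
    · exact hr2 h2
    · haveI := Fact.mk Nat.prime_two
      obtain ⟨k, hk⟩ := IsPGroup.iff_card.mp (show IsPGroup 2 Z from fun z =>
        ⟨1, Subtype.ext (by simpa [pow_two] using D.sqZ z z.2)⟩)
      rw [hk] at h2
      exact hr2 (D.hr.dvd_of_dvd_pow h2)

/-- The number of elements with square in a subgroup of `Z`. -/
theorem card_sv_mem (hidx : Z.index = 2 ^ (4 * m)) (Z₀ : Subgroup ↥Z)
    (hrad : ∀ χ : Z →* ℤˣ, χ ≠ 1 → (∀ z ∈ Z₀, χ z = 1) → D.rad χ = Z) :
    Nat.card {u : U // D.sv u ∈ Z₀} * Z₀.index =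
      Nat.card Z * (2 ^ (4 * m) + (Z₀.index - 1) * 2 ^ (2 * m)) := by
  classical
  haveI : Fintype U := Fintype.ofFinite U
  letI : CommGroup Z := { (inferInstance : Group Z) with
    mul_comm := fun a b => Subtype.ext (D.cen b b.2 a) }
  let q := QuotientGroup.mk' Z₀
  have hsq : ∀ a : Z ⧸ Z₀, a * a = 1 := fun a => by
    obtain ⟨z, rfl⟩ := QuotientGroup.mk'_surjective Z₀ a
    rw [← map_mul, show z * z = 1 from Subtype.ext (D.sqZ z z.2), map_one]
  obtain ⟨hcard, hsep⟩ := card_dual_sq hsq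
  haveI : Finite ((Z ⧸ Z₀) →* ℤˣ) := Finite.of_injective _ DFunLike.coe_injective
  haveI : Fintype ((Z ⧸ Z₀) →* ℤˣ) := Fintype.ofFinite _
  have hdual : ∀ a : Z ⧸ Z₀, ∑ ψ : (Z ⧸ Z₀) →* ℤˣ, ((ψ a : ℤˣ) : ℤ) =
      if a = 1 then (Z₀.index : ℤ) else 0 := by
    intro a
    split
    · next h =>
      subst h
      simp [← Nat.card_eq_fintype_card, hcard, Subgroup.index]
    · next ha =>
      obtain ⟨δ, hδ⟩ := hsep a ha
      have hδ' : δ a = -1 := (Int.units_eq_one_or (δ a)).resolve_left hδ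
      have h1 := Equiv.sum_comp (Equiv.mulLeft δ) fun ψ : (Z ⧸ Z₀) →* ℤˣ => ((ψ a : ℤˣ) : ℤ)
      have h2 : ∀ ψ : (Z ⧸ Z₀) →* ℤˣ, (((Equiv.mulLeft δ ψ) a : ℤˣ) : ℤ) = -((ψ a : ℤˣ) : ℤ) :=
        fun ψ => by rw [Equiv.coe_mulLeft, MonoidHom.mul_apply, hδ']; simp
      rw [Finset.sum_congr rfl (fun ψ _ => h2 ψ), Finset.sum_neg_distrib] at h1
      linarith
  have hA : ∑ ψ : (Z ⧸ Z₀) →* ℤˣ, ∑ u : U, ((ψ (q (D.sv u)) : ℤˣ) : ℤ) =
      (Nat.card {u : U // D.sv u ∈ Z₀} : ℤ) * (Z₀.index : ℤ) := by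
    rw [Finset.sum_comm, Finset.sum_congr rfl fun u _ => hdual (q (D.sv u)), ← Finset.sum_filter,
      Finset.sum_const, nsmul_eq_mul]
    congr 2
    rw [Nat.card_eq_fintype_card, Fintype.card_subtype]
    congr 1
    ext u
    simp [q, QuotientGroup.eq_one_iff]
  have hB : ∑ ψ : (Z ⧸ Z₀) →* ℤˣ, ∑ u : U, ((ψ (q (D.sv u)) : ℤˣ) : ℤ) =
      (Nat.card U : ℤ) + ((Z₀.index : ℤ) - 1) * ((2 : ℤ) ^ (2 * m) * (Nat.card Z : ℤ)) := by
    rw [← Finset.add_sum_erase Finset.univ _ (Finset.mem_univ (1 : (Z ⧸ Z₀) →* ℤˣ))]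
    have hg : ∀ ψ ∈ Finset.univ.erase (1 : (Z ⧸ Z₀) →* ℤˣ),
        ∑ u : U, ((ψ (q (D.sv u)) : ℤˣ) : ℤ) = (2 : ℤ) ^ (2 * m) * (Nat.card Z : ℤ) := by
      intro ψ hψ
      refine gauss_pos D (η := ψ.comp q) (hrad _ (fun h => Finset.ne_of_mem_erase hψ ?_) ?_) hidx
      · refine MonoidHom.ext fun a => ?_
        obtain ⟨z, rfl⟩ := QuotientGroup.mk'_surjective Z₀ a
        exact DFunLike.congr_fun h z
      · intro z hz
        show ψ (q z) = 1
        rw [show q z = 1 from (QuotientGroup.eq_one_iff z).2 hz, map_one]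
    rw [Finset.sum_congr rfl hg, Finset.sum_const, nsmul_eq_mul,
      Finset.card_erase_of_mem (Finset.mem_univ _), Finset.card_univ, ← Nat.card_eq_fintype_card, hcard]
    rw [show Nat.card (Z ⧸ Z₀) = Z₀.index from rfl,
      Nat.cast_sub (Nat.one_le_iff_ne_zero.2 Subgroup.index_ne_zero_of_finite)]
    simp [Nat.card_eq_fintype_card]
  have h := hA.symm.trans hB
  rw [card_univ_eq D hidx] at h
  obtain ⟨j, hj⟩ : ∃ j, Z₀.index = j + 1 :=
    ⟨_, (Nat.sub_add_cancel (Nat.one_le_iff_ne_zero.2 Subgroup.index_ne_zero_of_finite)).symm⟩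
  rw [hj] at h ⊢
  rw [Nat.add_sub_cancel]
  push_cast at h
  have h' : ((Nat.card {u : U // D.sv u ∈ Z₀} * (j + 1) : ℕ) : ℤ) =
      ((Nat.card Z * (2 ^ (4 * m) + j * 2 ^ (2 * m)) : ℕ) : ℤ) := by
    push_cast
    linear_combination h
  exact_mod_cast h'

/-- Some element outside `Z` has its square in `Z₀`. -/
theorem exists_sv_mem (hidx : Z.index = 2 ^ (4 * m)) (Z₀ : Subgroup ↥Z)
    (hrad : ∀ χ : Z →* ℤˣ, χ ≠ 1 → (∀ z ∈ Z₀, χ z = 1) → D.rad χ = Z) :
    ∃ u : U, u ∉ Z ∧ D.sv u ∈ Z₀ := by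
  by_contra hcon
  push Not at hcon
  have hle : Nat.card {u : U // D.sv u ∈ Z₀} ≤ Nat.card Z :=
    Nat.card_le_card_of_injective (fun u => ⟨u.1, by_contra fun h => hcon u.1 h u.2⟩)
      fun a b h => Subtype.ext (congrArg Subtype.val h :)
  have h := card_sv_mem D hidx Z₀ hrad
  have hZ : 0 < Nat.card Z := Nat.card_pos
  have h4 : 4 ≤ 2 ^ (2 * m) := by
    calc 4 = 2 ^ 2 := rfl
      _ ≤ _ := Nat.pow_le_pow_right two_pos (by have := D.m_pos; omega)
  have h1 : 1 ≤ Z₀.index := Nat.one_le_iff_ne_zero.2 Subgroup.index_ne_zero_of_finite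
  have h2 := Nat.mul_le_mul_right Z₀.index hle
  rw [h] at h2
  have h3 := Nat.le_of_mul_le_mul_left h2 hZ
  obtain ⟨j, hj⟩ : ∃ j, Z₀.index = j + 1 := ⟨_, (Nat.sub_add_cancel h1).symm⟩
  rw [hj, Nat.add_sub_cancel] at h3
  have h5 : 2 ≤ 2 ^ (4 * m) := Nat.le_self_pow (by have := D.m_pos; omega) 2
  nlinarith

/-- Subgroups with all squares in a proper subgroup of `Z` are small. -/
theorem card_le_of_sv_mem (hidx : Z.index = 2 ^ (4 * m)) (Z₀ : Subgroup ↥Z) (h2 : 2 ≤ Z₀.index)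
    (hrad : ∀ χ : Z →* ℤˣ, χ ≠ 1 → (∀ z ∈ Z₀, χ z = 1) → D.rad χ = Z)
    {X : Subgroup U} (hZX : Z ≤ X) (hX : ∀ x ∈ X, D.sv x ∈ Z₀) :
    Nat.card X ≤ 2 ^ (2 * m) * Nat.card Z := by
  classical
  haveI : Fintype U := Fintype.ofFinite U
  letI : CommGroup Z := { (inferInstance : Group Z) with
    mul_comm := fun a b => Subtype.ext (D.cen b b.2 a) }
  have hsq : ∀ a : Z ⧸ Z₀, a * a = 1 := fun a => by
    obtain ⟨z, rfl⟩ := QuotientGroup.mk'_surjective Z₀ a
    rw [← map_mul, show z * z = 1 from Subtype.ext (D.sqZ z z.2), map_one]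
  haveI : Nontrivial (Z ⧸ Z₀) := Finite.one_lt_card_iff_nontrivial.1 h2
  obtain ⟨a, ha⟩ := exists_ne (1 : Z ⧸ Z₀)
  obtain ⟨ψ, hψ⟩ := (card_dual_sq hsq).2 a ha
  set ε : Z →* ℤˣ := ψ.comp (QuotientGroup.mk' Z₀) with hε
  have hε0 : ∀ z ∈ Z₀, ε z = 1 := fun z hz => by
    show ψ (QuotientGroup.mk' Z₀ z) = 1
    rw [show QuotientGroup.mk' Z₀ z = 1 from (QuotientGroup.eq_one_iff z).2 hz, map_one]
  have hεne : ε ≠ 1 := fun h => hψ (by
    obtain ⟨z, rfl⟩ := QuotientGroup.mk'_surjective Z₀ a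
    exact DFunLike.congr_fun h z)
  have hr := hrad ε hεne hε0
  set P := Finset.univ.filter (fun u : U => ∀ x ∈ X, ε (D.cm u x) = 1) with hP
  have hXc : ∀ u ∈ X, ∀ x ∈ X, ε (D.cm u x) = 1 := fun u hu x hx => by
    have h := congrArg ε (D.sv_mul x u)
    rw [map_mul, map_mul, hε0 _ (hX _ (X.mul_mem hx hu)), hε0 _ (hX _ hx), hε0 _ (hX _ hu), one_mul,
      one_mul] at h
    exact h.symm
  have hrow : ∀ u : U, ∑ x : X, ((ε (D.cm u x) : ℤˣ) : ℤ) =
      if u ∈ P then (Nat.card X : ℤ) else 0 := by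
    intro u
    split
    · next h =>
      rw [hP, Finset.mem_filter] at h
      rw [Finset.sum_congr rfl (g := fun _ => (1 : ℤ)) fun x _ => by rw [h.2 x x.2, Units.val_one]]
      simp [Nat.card_eq_fintype_card]
    · next h =>
      let χ : X →* ℤˣ :=
        { toFun := fun x => ε (D.cm u x)
          map_one' := by rw [OneMemClass.coe_one, D.cm_comm, D.cm_of_mem (one_mem _), map_one]
          map_mul' := fun x y => by rw [Subgroup.coe_mul, D.cm_mul_right, map_mul] }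
      refine sum_char (χ := χ) fun e => h ?_
      rw [hP, Finset.mem_filter]
      exact ⟨Finset.mem_univ _, fun x hx => DFunLike.congr_fun e ⟨x, hx⟩⟩
  have hcard : (Nat.card X : ℤ) * (P.card : ℤ) = (Nat.card Z : ℤ) * (Nat.card U : ℤ) := by
    have h1 : ∑ u : U, ∑ x : X, ((ε (D.cm u x) : ℤˣ) : ℤ) = (Nat.card X : ℤ) * (P.card : ℤ) := by
      rw [Finset.sum_congr rfl fun u _ => hrow u, ← Finset.sum_filter, Finset.sum_const, nsmul_eq_mul,
        mul_comm]
      congr 3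
      ext u; simp
    rw [← h1, Finset.sum_comm, Finset.sum_congr rfl (g := fun x : X =>
      if (x : U) ∈ Z then (Nat.card U : ℤ) else 0) fun x _ => by
        rw [← D.sum_sq hr (x : U)]
        exact Finset.sum_congr rfl fun u _ => by rw [D.cm_comm]]
    rw [← Finset.sum_filter, Finset.sum_const, nsmul_eq_mul]
    congr 1
    rw [← Fintype.card_subtype, ← Nat.card_eq_fintype_card]
    exact_mod_cast (Nat.card_congr (Equiv.subtypeSubtypeEquivSubtype fun {u} hu => hZX hu))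
  have hle : Nat.card X ≤ P.card := by
    rw [Nat.card_eq_fintype_card, Fintype.card_subtype]
    refine Finset.card_le_card fun u hu => ?_
    rw [Finset.mem_filter] at hu
    rw [hP, Finset.mem_filter]
    exact ⟨Finset.mem_univ _, hXc u hu.2⟩
  have hcardN : Nat.card X * P.card = Nat.card Z * Nat.card U := by exact_mod_cast hcard
  rw [card_univ_eq D hidx] at hcardN
  refine (Nat.pow_le_pow_iff_left (n := 2) two_ne_zero).1 ?_
  calc Nat.card X ^ 2 = Nat.card X * Nat.card X := sq _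
    _ ≤ Nat.card X * P.card := Nat.mul_le_mul_left _ hle
    _ = _ := by rw [hcardN, show 4 * m = 2 * m + 2 * m by ring, pow_add]; ring

end H21.Shult.TwoGauss
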